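import Groth.Agent.Lib.Poincare.PicDescent
import Groth.Agent.Lib.PicDirect26.Basic

/-!
# Invertible modules trivial after a flat covering of the base come from the base
-/

set_option autoImplicit false
set_option linter.all false
set_option backward.isDefEq.respectTransparency false
set_option maxHeartbeats 1000000
set_option synthInstance.maxHeartbeats 200000

universe u

open CategoryTheory CategoryTheory.Limits AlgebraicGeometry Opposite TopologicalSpace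
open GrothLib.Ample GrothLib.Cube
open GrothLib.PicDescent

noncomputable section

namespace GrothLib.FppfPic26

/-- Invariant trivialisations descend along flat coverings. -/
theorem triv_of_invariant {X Y : Scheme.{u}} (p : Y ⟶ X) [Flat p] [LocallyOfFinitePresentation p] [Surjective p]
    (c : Cocycle X) (b : ∀ i, Γ(Y, p ⁻¹ᵁ c.D i)) (hu : ∀ i, IsUnit (b i))
    (hrel : ∀ (i k : c.ι) (W : Y.Opens) (hi : W ≤ p ⁻¹ᵁ c.D i) (hk : W ≤ p ⁻¹ᵁ c.D k),
      res hi (b i) = (c.comap p).G i k hi hk * res hk (b k))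
    (hinv : ∀ {Z : Scheme.{u}} (α β : Z ⟶ Y), α ≫ p = β ≫ p → ∀ (i : c.ι)
      (ea : (⊤ : Z.Opens) ≤ α ⁻¹ᵁ (p ⁻¹ᵁ c.D i)) (eb : (⊤ : Z.Opens) ≤ β ⁻¹ᵁ (p ⁻¹ᵁ c.D i)),
      α.appLE _ ⊤ ea (b i) = β.appLE _ ⊤ eb (b i)) :
    Triv c := by
  have hsec := fun U => GrpdQuot.sections_of_local_section p p (𝟙 Y) (Category.id_comp p) U
  choose g hg using fun i => (hsec (c.D i)).2 (b i) fun {Z} α β ea eb h => hinv α β h i ea eb
  choose ib hib using fun i => (hu i).exists_right_inv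
  choose g' hg' using fun i => (hsec (c.D i)).2 (ib i) fun {Z} α β ea eb h => by
    have e1 := congrArg (α.appLE _ ⊤ ea) (hib i)
    have e2 := congrArg (β.appLE _ ⊤ eb) (hib i)
    rw [map_mul, map_one] at e1 e2
    rw [hinv α β h i ea eb] at e1
    exact ((hu i).map (β.appLE _ ⊤ eb).hom).mul_left_cancel (e1.trans e2.symm)
  have hgu : ∀ i, IsUnit (g i) := fun i => IsUnit.of_mul_eq_one (g' i) ((hsec (c.D i)).1 (by
    rw [map_mul, map_one, hg, hg', hib]))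
  have key : ∀ (i : c.ι) (W : X.Opens) (h : W ≤ c.D i),
      p.appLE W (p ⁻¹ᵁ W) le_rfl (res h (g i)) = res (p.preimage_mono h) (b i) := fun i W h => by
    rw [← hg i, Scheme.Hom.app_eq_appLE, res_appLE', appLE_res']
  let a : ∀ i, Γ(X, ⊤ ⊓ c.D i) := fun i => res inf_le_right (g i)
  have hmem : a ∈ c.sect 1 ⊤ := fun i k W hi hk => by
    refine (hsec W).1 ?_
    rw [Scheme.Hom.app_eq_appLE, map_mul, map_pow, pow_one]
    simp only [a, res_res]
    rw [key i W (hi.trans inf_le_right), key k W (hk.trans inf_le_right),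
      appLE_G' c p i k (hi.trans inf_le_right) (hk.trans inf_le_right) le_rfl]
    exact hrel i k _ _ _
  exact ⟨⟨a, hmem⟩, c.locus_eq_top_of_isUnit _ fun i => (hgu i).map _⟩

/-- Pullback of a trivialisation relation. -/
theorem pull_rel {X Y Z : Scheme.{u}} (p : Y ⟶ X) (c : Cocycle X) (a : ∀ i, Γ(Y, p ⁻¹ᵁ c.D i))
    (ha : ∀ (i k : c.ι) (W : Y.Opens) (hi : W ≤ p ⁻¹ᵁ c.D i) (hk : W ≤ p ⁻¹ᵁ c.D k),
      res hi (a i) = (c.comap p).G i k hi hk * res hk (a k))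
    (γ : Z ⟶ Y) {r : Z ⟶ X} (hr : γ ≫ p = r) (i k : c.ι) {W : Z.Opens} (hi : W ≤ γ ⁻¹ᵁ (p ⁻¹ᵁ c.D i))
    (hk : W ≤ γ ⁻¹ᵁ (p ⁻¹ᵁ c.D k)) :
    γ.appLE (p ⁻¹ᵁ c.D i) W hi (a i) =
      r.appLE (c.D i ⊓ c.D k) W (by subst hr; exact le_inf hi hk) (c.g i k) * γ.appLE (p ⁻¹ᵁ c.D k) W hk (a k) := by
  subst hr
  have A := congrArg (γ.appLE (p ⁻¹ᵁ c.D i ⊓ p ⁻¹ᵁ c.D k) W (le_pre_inf hi hk))
    (ha i k _ inf_le_left inf_le_right)
  rw [map_mul, appLE_res', appLE_res', comap_G', appLE_appLE] at A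
  exact A

variable {X S V : Scheme.{u}} {f : X ⟶ S} (v : V ⟶ S) {c : Cocycle X}

theorem bijective_app_congr {X S : Scheme.{u}} {a b : X ⟶ S} (h : a = b) (U : S.Opens)
    (ha : Function.Bijective (a.app U)) : Function.Bijective (b.app U) := by
  subst h; exact ha

theorem bijective_app (hb : ∀ {T : Scheme.{u}} (g : T ⟶ S) (U : T.Opens),
    Function.Bijective ((pullback.snd f g).app U)) (U : S.Opens) : Function.Bijective (f.app U) := by
  have e : inv (pullback.fst f (𝟙 S)) ≫ pullback.snd f (𝟙 S) = f := by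
    rw [IsIso.inv_comp_eq, pullback.condition, Category.comp_id]
  refine bijective_app_congr e U ?_
  rw [Scheme.Hom.comp_app]
  exact (ConcreteCategory.bijective_of_isIso
    ((inv (pullback.fst f (𝟙 S))).app (pullback.snd f (𝟙 S) ⁻¹ᵁ U))).comp (hb (𝟙 S) U)

/-- The unit on the square by which two trivialisations differ. -/
theorem exists_theta (hb : ∀ {T : Scheme.{u}} (g : T ⟶ S) (U : T.Opens),
      Function.Bijective ((pullback.snd f g).app U))
    (a : ∀ i, Γ(pullback f v, pullback.fst f v ⁻¹ᵁ c.D i)) (hau : ∀ i, IsUnit (a i))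
    (ha : ∀ (i k : c.ι) (W : (pullback f v).Opens) (hi : W ≤ pullback.fst f v ⁻¹ᵁ c.D i)
      (hk : W ≤ pullback.fst f v ⁻¹ᵁ c.D k),
      res hi (a i) = (c.comap (pullback.fst f v)).G i k hi hk * res hk (a k)) :
    ∃ θ : Γ(pullback v v, ⊤), IsUnit θ ∧
      (∀ {Z : Scheme.{u}} (α β : Z ⟶ pullback f v) (h : α ≫ pullback.fst f v = β ≫ pullback.fst f v)
        (t : Z ⟶ pullback v v), t ≫ pullback.fst v v = α ≫ pullback.snd f v →
        t ≫ pullback.snd v v = β ≫ pullback.snd f v → ∀ (i : c.ι) (W : Z.Opens)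
        (eα : W ≤ α ⁻¹ᵁ (pullback.fst f v ⁻¹ᵁ c.D i)) (eβ : W ≤ β ⁻¹ᵁ (pullback.fst f v ⁻¹ᵁ c.D i)),
        β.appLE _ W eβ (a i) = t.appLE ⊤ W le_top θ * α.appLE _ W eα (a i)) ∧
      (∀ {T : Scheme.{u}} (t₁ t₂ t₃ : T ⟶ V) (s₁₂ s₂₃ s₁₃ : T ⟶ pullback v v),
        s₁₂ ≫ pullback.fst v v = t₁ → s₁₂ ≫ pullback.snd v v = t₂ →
        s₂₃ ≫ pullback.fst v v = t₂ → s₂₃ ≫ pullback.snd v v = t₃ →
        s₁₃ ≫ pullback.fst v v = t₁ → s₁₃ ≫ pullback.snd v v = t₃ →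
        s₁₃.appLE ⊤ ⊤ le_top θ = s₁₂.appLE ⊤ ⊤ le_top θ * s₂₃.appLE ⊤ ⊤ le_top θ) := by
  let r : pullback f (pullback.fst v v ≫ v) ⟶ X := pullback.fst f (pullback.fst v v ≫ v)
  have hr₁ : q₁ f v ≫ (pullback.fst f v) = r := q₁_fst f v
  have hr₂ : q₂ f v ≫ (pullback.fst f v) = r := q₂_fst f v
  choose ia hia using fun i => (hau i).exists_right_inv
  let O : c.ι → (pullback f (pullback.fst v v ≫ v)).Opens := fun i => r ⁻¹ᵁ c.D i
  have hO₁ : ∀ i, O i ≤ q₁ f v ⁻¹ᵁ ((pullback.fst f v) ⁻¹ᵁ c.D i) := fun i => le_pre hr₁ le_rfl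
  have hO₂ : ∀ i, O i ≤ q₂ f v ⁻¹ᵁ ((pullback.fst f v) ⁻¹ᵁ c.D i) := fun i => le_pre hr₂ le_rfl
  let ρ : ∀ i, Γ(pullback f (pullback.fst v v ≫ v), O i) := fun i =>
    (q₂ f v).appLE _ _ (hO₂ i) (a i) * (q₁ f v).appLE _ _ (hO₁ i) (ia i)
  have hcov : (⊤ : (pullback f (pullback.fst v v ≫ v)).Opens) ≤ ⨆ i, O i := fun z _ => by
    obtain ⟨i, hi⟩ := c.exists_mem (r z)
    exact Opens.mem_iSup.mpr ⟨i, hi⟩
  obtain ⟨ρ', hρ'⟩ := exists_glue O (O := ⊤) (fun _ => le_top) hcov ρ fun i k => by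
    let W := O i ⊓ O k
    have hi : W ≤ O i := inf_le_left
    have hk : W ≤ O k := inf_le_right
    have eG : W ≤ r ⁻¹ᵁ (c.D i ⊓ c.D k) := le_inf hi hk
    have A₁ := pull_rel _ c a ha (q₁ f v) hr₁ i k (W := W) (hi.trans (hO₁ i)) (hk.trans (hO₁ k))
    have A₂ := pull_rel _ c a ha (q₂ f v) hr₂ i k (W := W) (hi.trans (hO₂ i)) (hk.trans (hO₂ k))
    have B₁ := congrArg ((q₁ f v).appLE _ W (hi.trans (hO₁ i))) (hia i)
    have B₂ := congrArg ((q₁ f v).appLE _ W (hk.trans (hO₁ k))) (hia k)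
    rw [map_mul, map_one] at B₁ B₂
    simp only [ρ, map_mul, res_appLE']
    rw [A₂]
    rw [A₁] at B₁
    set G := r.appLE (c.D i ⊓ c.D k) W _ (c.g i k)
    set P₂ := (q₂ f v).appLE _ W (hk.trans (hO₂ k)) (a k)
    set P₁ := (q₁ f v).appLE _ W (hk.trans (hO₁ k)) (a k)
    set I₁ := (q₁ f v).appLE _ W (hi.trans (hO₁ i)) (ia i)
    set J₁ := (q₁ f v).appLE _ W (hk.trans (hO₁ k)) (ia k)
    linear_combination (-(G * P₂ * I₁)) * B₂ + P₂ * J₁ * B₁
  have hρ'u : IsUnit ρ' := isUnit_of_cover O hcov ρ' fun i => by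
    rw [hρ' i]
    exact ((hau i).map _).mul ((IsUnit.of_mul_eq_one _ ((mul_comm _ _).trans (hia i))).map _)
  obtain ⟨θ, hθ⟩ := (hb (pullback.fst v v ≫ v) ⊤).2 ρ'
  have hθu : IsUnit θ := by
    let E : Γ(pullback v v, ⊤) ≃+* Γ(pullback f (pullback.fst v v ≫ v), pullback.snd f (pullback.fst v v ≫ v) ⁻¹ᵁ ⊤) :=
      RingEquiv.ofBijective ((pullback.snd f (pullback.fst v v ≫ v)).app ⊤).hom (hb (pullback.fst v v ≫ v) ⊤)
    have h1 : IsUnit (E θ) := (congrArg IsUnit hθ).mpr hρ'u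
    have h2 : IsUnit (E.symm (E θ)) := h1.map E.symm
    rwa [E.symm_apply_apply] at h2
  have hrel : ∀ {Z : Scheme.{u}} (α β : Z ⟶ pullback f v) (h : α ≫ (pullback.fst f v) = β ≫ (pullback.fst f v))
      (t : Z ⟶ pullback v v), t ≫ pullback.fst v v = α ≫ pullback.snd f v →
      t ≫ pullback.snd v v = β ≫ pullback.snd f v → ∀ (i : c.ι) (W : Z.Opens)
      (eα : W ≤ α ⁻¹ᵁ ((pullback.fst f v) ⁻¹ᵁ c.D i)) (eβ : W ≤ β ⁻¹ᵁ ((pullback.fst f v) ⁻¹ᵁ c.D i)),
      β.appLE _ W eβ (a i) = t.appLE ⊤ W le_top θ * α.appLE _ W eα (a i) := by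
    intro Z α β h t ht₁ ht₂ i W eα eβ
    let m : Z ⟶ pullback f (pullback.fst v v ≫ v) := PicDescent.pair α β h
    have hm₁ : m ≫ q₁ f v = α := pair_q₁ α β h
    have hm₂ : m ≫ q₂ f v = β := pair_q₂ α β h
    have hm : m ≫ pullback.snd f (pullback.fst v v ≫ v) = t := by
      refine pullback.hom_ext ?_ ?_
      · rw [ht₁]; simp [m, PicDescent.pair]
      · rw [ht₂]; simp [m, PicDescent.pair]
    have eW : W ≤ m ⁻¹ᵁ O i := le_pre (pair_fst α β h) eα
    have e1 : res (le_top : O i ≤ ⊤) ((pullback.snd f (pullback.fst v v ≫ v)).appLE ⊤ ⊤ le_top θ) = ρ i := by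
      rw [← hρ' i, ← hθ, Scheme.Hom.app_eq_appLE]; rfl
    have e2 := congrArg (m.appLE (O i) W eW) e1
    have B := congrArg (m.appLE (O i) W eW) (congrArg ((q₁ f v).appLE _ (O i) (hO₁ i)) (hia i))
    simp only [ρ, map_mul, map_one, appLE_res', appLE_appLE] at e2 B
    rw [appLE_congr hm _ le_top, appLE_congr hm₁ _ eα, appLE_congr hm₂ _ eβ] at e2
    rw [appLE_congr hm₁ _ eα, appLE_congr hm₁ _ eα] at B
    set A := α.appLE _ W eα (a i)
    set B' := β.appLE _ W eβ (a i)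
    linear_combination (-B') * B - A * e2
  refine ⟨θ, hθu, hrel, ?_⟩
  intro T t₁ t₂ t₃ s₁₂ s₂₃ s₁₃ h12 h12' h23 h23' h13 h13'
  let g : T ⟶ S := t₁ ≫ v
  have hg₂ : t₂ ≫ v = g := by
    rw [← h12', Category.assoc, ← pullback.condition, ← Category.assoc, h12]
  have hg₃ : t₃ ≫ v = g := by
    rw [← h13', Category.assoc, ← pullback.condition, ← Category.assoc, h13]
  let Q : ∀ (t : T ⟶ V), t ≫ v = g → (pullback f g ⟶ pullback f v) := fun t ht =>
    pullback.lift (pullback.fst f g) (pullback.snd f g ≫ t) (by rw [Category.assoc, ht, pullback.condition])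
  have hQ : ∀ t ht, Q t ht ≫ (pullback.fst f v) = pullback.fst f g := fun t ht => pullback.lift_fst _ _ _
  have hQs : ∀ t ht, Q t ht ≫ pullback.snd f v = pullback.snd f g ≫ t := fun t ht => pullback.lift_snd _ _ _
  let O₃ : c.ι → (pullback f g).Opens := fun i => pullback.fst f g ⁻¹ᵁ c.D i
  have eQ : ∀ t ht i, O₃ i ≤ Q t ht ⁻¹ᵁ ((pullback.fst f v) ⁻¹ᵁ c.D i) := fun t ht i => le_pre (hQ t ht) le_rfl
  refine (hb g ⊤).1 ?_
  rw [Scheme.Hom.app_eq_appLE, map_mul, appLE_appLE, appLE_appLE, appLE_appLE]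
  refine Ample.eq_of_cover O₃ (fun _ => le_top) (fun z _ => ?_) fun i => ?_
  · obtain ⟨i, hi⟩ := c.exists_mem (pullback.fst f g z)
    exact Opens.mem_iSup.mpr ⟨i, hi⟩
  have key : ∀ (t t' : T ⟶ V) (ht : t ≫ v = g) (ht' : t' ≫ v = g) (s : T ⟶ pullback v v),
      s ≫ pullback.fst v v = t → s ≫ pullback.snd v v = t' →
      (Q t' ht').appLE _ (O₃ i) (eQ t' ht' i) (a i) =
        (pullback.snd f g ≫ s).appLE ⊤ (O₃ i) le_top θ * (Q t ht).appLE _ (O₃ i) (eQ t ht i) (a i) :=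
    fun t t' ht ht' s hs hs' => hrel (Q t ht) (Q t' ht') ((hQ t ht).trans (hQ t' ht').symm)
      (pullback.snd f g ≫ s) (by rw [Category.assoc, hs, hQs t ht]) (by rw [Category.assoc, hs', hQs t' ht']) i _ _ _
  have k12 := key t₁ t₂ rfl hg₂ s₁₂ h12 h12'
  have k23 := key t₂ t₃ hg₂ hg₃ s₂₃ h23 h23'
  have k13 := key t₁ t₃ rfl hg₃ s₁₃ h13 h13'
  erw [map_mul, res_appLE', res_appLE', res_appLE']
  refine ((hau i).map ((Q t₁ rfl).appLE _ (O₃ i) (eQ t₁ rfl i)).hom).mul_right_cancel ?_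
  rw [← k13, k23, k12]
  ring

/-- The elementwise coboundary near one point. -/
theorem exists_coboundary_near {B C : CommRingCat.{u}} (φ : B ⟶ C) (hφ : φ.hom.FaithfullyFlat)
    (u₀ : Spec B ⟶ S) [Mono u₀] {v : Spec C ⟶ S} (hv : Spec.map φ ≫ u₀ = v)
    (θ : Γ(pullback v v, ⊤)) (hθ : IsUnit θ)
    (hc : ∀ {T : Scheme.{u}} (t₁ t₂ t₃ : T ⟶ Spec C) (s₁₂ s₂₃ s₁₃ : T ⟶ pullback v v),
        s₁₂ ≫ pullback.fst v v = t₁ → s₁₂ ≫ pullback.snd v v = t₂ →
        s₂₃ ≫ pullback.fst v v = t₂ → s₂₃ ≫ pullback.snd v v = t₃ →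
        s₁₃ ≫ pullback.fst v v = t₁ → s₁₃ ≫ pullback.snd v v = t₃ →
        s₁₃.appLE ⊤ ⊤ le_top θ = s₁₂.appLE ⊤ ⊤ le_top θ * s₂₃.appLE ⊤ ⊤ le_top θ)
    (P : Spec B) :
    ∃ x : Γ(Spec C, ⊤),
      (pullback.snd v v).appLE ⊤ ⊤ le_top x = θ * (pullback.fst v v).appLE ⊤ ⊤ le_top x ∧
      (∃ q : Spec C, Spec.map φ q = P ∧ q ∈ (Spec C).basicOpen x) ∧
      (∀ q q' : Spec C, v q = v q' → q ∈ (Spec C).basicOpen x → q' ∈ (Spec C).basicOpen x) := by
  letI : Algebra B C := φ.hom.toAlgebra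
  haveI : Module.FaithfullyFlat B C := hφ
  let S₂ := CommRingCat.of (TensorProduct B C C)
  let S₃ := CommRingCat.of (TensorProduct B C (TensorProduct B C C))
  let a₀ : Spec S₂ ⟶ Spec C :=
    Spec.map (CommRingCat.ofHom (Algebra.TensorProduct.includeLeftRingHom : C →+* TensorProduct B C C))
  let b₀ : Spec S₂ ⟶ Spec C := Spec.map (CommRingCat.ofHom
    (Algebra.TensorProduct.includeRight : C →ₐ[B] TensorProduct B C C).toRingHom)
  have hab' : a₀ ≫ Spec.map φ = b₀ ≫ Spec.map φ := by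
    simp only [a₀, b₀, ← Spec.map_comp]
    congr 1
    exact CommRingCat.hom_ext (Algebra.TensorProduct.includeLeftRingHom_comp_algebraMap (A := C) (B := C))
  have hab : a₀ ≫ v = b₀ ≫ v := by
    rw [← hv, ← Category.assoc, hab', Category.assoc]
  let t₀ : Spec S₂ ⟶ pullback v v := pullback.lift a₀ b₀ hab
  let iS := Scheme.ΓSpecIso S₂
  let θ₀ : TensorProduct B C C := iS.hom (t₀.appLE ⊤ ⊤ le_top θ)
  have hθ₀u : IsUnit θ₀ := (hθ.map _).map iS.hom.hom
  have hnat : ∀ (ψ : TensorProduct B C C →ₐ[B] TensorProduct B C (TensorProduct B C C)),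
      ψ θ₀ = (Scheme.ΓSpecIso S₃).hom
        ((Spec.map (CommRingCat.ofHom ψ.toRingHom) ≫ t₀).appLE ⊤ ⊤ le_top θ) := by
    intro ψ
    rw [← appLE_appLE (Spec.map (CommRingCat.ofHom ψ.toRingHom)) t₀ (W := ⊤) le_top
      (show (⊤ : (Spec S₃).Opens) ≤ Spec.map (CommRingCat.ofHom ψ.toRingHom) ⁻¹ᵁ ⊤ from le_top) θ]
    have := ConcreteCategory.congr_hom (Scheme.ΓSpecIso_naturality (CommRingCat.ofHom ψ.toRingHom))
      (t₀.appLE ⊤ ⊤ le_top θ)
    rw [CommRingCat.comp_apply, CommRingCat.comp_apply] at this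
    refine Eq.trans ?_ (this.symm.trans (congrArg _ ?_))
    · rfl
    · rw [show (Spec.map (CommRingCat.ofHom ψ.toRingHom)).appTop =
        (Spec.map (CommRingCat.ofHom ψ.toRingHom)).appLE ⊤ ⊤ le_top from
        Scheme.Hom.app_eq_appLE (f := Spec.map (CommRingCat.ofHom ψ.toRingHom)) (U := ⊤)]
  let l₁₂ := Spec.map (CommRingCat.ofHom (H90.f12 (B := B) (C := C)).toRingHom)
  let l₂₃ := Spec.map (CommRingCat.ofHom (H90.f23 (B := B) (C := C)).toRingHom)
  let l₁₃ := Spec.map (CommRingCat.ofHom (H90.f13 (B := B) (C := C)).toRingHom)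
  have hfst : t₀ ≫ pullback.fst v v = a₀ := pullback.lift_fst _ _ _
  have hsnd : t₀ ≫ pullback.snd v v = b₀ := pullback.lift_snd _ _ _
  have e2 : l₂₃ ≫ a₀ = l₁₂ ≫ b₀ := by
    simp only [l₂₃, l₁₂, a₀, b₀, ← Spec.map_comp]
    congr 1
  have e1 : l₁₃ ≫ a₀ = l₁₂ ≫ a₀ := by
    simp only [l₁₃, l₁₂, a₀, ← Spec.map_comp]
    congr 1
  have e3 : l₁₃ ≫ b₀ = l₂₃ ≫ b₀ := by
    simp only [l₁₃, l₂₃, b₀, ← Spec.map_comp]
    congr 1
  have hcyc : H90.f13 θ₀ = H90.f12 θ₀ * H90.f23 θ₀ := by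
    rw [hnat, hnat, hnat, ← map_mul]
    refine congrArg _ (hc (l₁₂ ≫ a₀) (l₁₂ ≫ b₀) (l₂₃ ≫ b₀) (l₁₂ ≫ t₀) (l₂₃ ≫ t₀) (l₁₃ ≫ t₀) ?_ ?_ ?_ ?_ ?_ ?_)
    all_goals rw [Category.assoc]
    · rw [hfst]
    · rw [hsnd]
    · rw [hfst, e2]
    · rw [hsnd]
    · rw [hfst, e1]
    · rw [hsnd, e3]
  obtain ⟨x₀, hx₁, hx₂⟩ := H90.exists_coboundary hθ₀u hcyc P
  let iC := Scheme.ΓSpecIso C
  let x : Γ(Spec C, ⊤) := iC.inv x₀
  have hmem : ∀ q : Spec C, q ∈ (Spec C).basicOpen x ↔ x₀ ∉ q.asIdeal := fun q => by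
    rw [basicOpen_eq_of_affine]
    rfl
  refine ⟨x, ?_, ?_, ?_⟩
  · let l : pullback v v ⟶ Spec S₂ := pullback.lift (pullback.fst v v) (pullback.snd v v) (by
      rw [← cancel_mono u₀, Category.assoc, Category.assoc, show CommRingCat.ofHom (algebraMap B C) = φ from rfl, hv]
      exact pullback.condition) ≫
      (pullbackSpecIso B C C).hom
    have hla : l ≫ a₀ = pullback.fst v v := by
      simp only [l, a₀, Category.assoc]
      exact (congrArg _ (pullbackSpecIso_hom_fst B C C)).trans (pullback.lift_fst _ _ _)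
    have hlb : l ≫ b₀ = pullback.snd v v := by
      simp only [l, b₀, Category.assoc]
      exact (congrArg _ (pullbackSpecIso_hom_snd B C C)).trans (pullback.lift_snd _ _ _)
    have hlt : l ≫ t₀ = 𝟙 _ := by
      refine pullback.hom_ext ?_ ?_
      · rw [Category.assoc, hfst, hla, Category.id_comp]
      · rw [Category.assoc, hsnd, hlb, Category.id_comp]
    have hnC : ∀ (ψ : C →+* TensorProduct B C C),
        (Spec.map (CommRingCat.ofHom ψ)).appLE ⊤ ⊤ le_top x = iS.inv (ψ x₀) := by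
      intro ψ
      have := ConcreteCategory.congr_hom (Scheme.ΓSpecIso_inv_naturality (CommRingCat.ofHom ψ)) x₀
      rw [CommRingCat.comp_apply, CommRingCat.comp_apply] at this
      rw [← show (Spec.map (CommRingCat.ofHom ψ)).appTop = (Spec.map (CommRingCat.ofHom ψ)).appLE ⊤ ⊤ le_top from
        Scheme.Hom.app_eq_appLE (f := Spec.map (CommRingCat.ofHom ψ)) (U := ⊤)]
      exact this.symm
    have h := congrArg (fun z => l.appLE ⊤ ⊤ le_top (iS.inv z)) hx₁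
    simp only [map_mul] at h
    have hiθ : iS.inv θ₀ = t₀.appLE ⊤ ⊤ le_top θ := Iso.hom_inv_id_apply iS _
    have hl : ∀ (j : Spec S₂ ⟶ Spec C) (k : pullback v v ⟶ Spec C), l ≫ j = k →
        l.appLE ⊤ ⊤ le_top (j.appLE ⊤ ⊤ le_top x) = k.appLE ⊤ ⊤ le_top x := fun j k hjk => by
      rw [appLE_appLE, appLE_congr hjk _ le_top]
    have hA : a₀.appLE ⊤ ⊤ le_top x = iS.inv (x₀ ⊗ₜ[B] (1 : C)) := hnC _
    have hB : b₀.appLE ⊤ ⊤ le_top x = iS.inv ((1 : C) ⊗ₜ[B] x₀) := hnC _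
    rw [← hl b₀ _ hlb, ← hl a₀ _ hla, hA, hB]
    refine h.trans (congrArg (· * _) ?_)
    rw [hiθ, appLE_appLE]
    refine (appLE_congr hlt _ (le_top : (⊤ : (pullback v v).Opens) ≤ 𝟙 (pullback v v) ⁻¹ᵁ ⊤) θ).trans ?_
    simp [Scheme.Hom.appLE, res]
  · haveI := hφ
    obtain ⟨q, hq⟩ := PrimeSpectrum.comap_surjective_of_faithfullyFlat (A := B) (B := C) P
    exact ⟨q, hq, (hmem q).2 (hx₂ q hq)⟩
  · intro q q' hqq hq
    rw [hmem] at hq ⊢
    have hP : Spec.map φ q = Spec.map φ q' := by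
      subst hv
      exact u₀.injective hqq
    obtain ⟨Q, h1, h2⟩ := H90.exists_prime_over (B := B) (C := C) hP
    intro hq'
    apply hq
    rw [← h1]
    rw [← h2] at hq'
    have h3 : θ₀ * (x₀ ⊗ₜ[B] (1 : C)) ∈ Q.asIdeal := hx₁ ▸ hq'
    exact (Q.isPrime.mem_or_mem h3).resolve_left fun h => Q.isPrime.ne_top (Ideal.eq_top_of_isUnit_mem _ h hθ₀u)

/-- A module trivial after a flat covering is trivial over a neighbourhood of every point of the base. -/
theorem triv_near (hb : ∀ {T : Scheme.{u}} (g : T ⟶ S) (U : T.Opens),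
      Function.Bijective ((pullback.snd f g).app U))
    {S' : Scheme.{u}} (h : S' ⟶ S) [Flat h] [LocallyOfFinitePresentation h] [Surjective h]
    (hc : pull (pullback.fst f h) (cls c) = 1) (s : S) :
    ∃ E : S.Opens, s ∈ E ∧ Triv (c.comap (f ⁻¹ᵁ E).ι) := by
  obtain ⟨_, ⟨U, hU, rfl⟩, hsU, -⟩ := S.isBasis_affineOpens.exists_subset_of_mem_open (Set.mem_univ s) isOpen_univ
  obtain ⟨s', rfl⟩ := h.surjective s
  obtain ⟨_, ⟨W, hW, rfl⟩, hsW, hWU⟩ :=
    S'.isBasis_affineOpens.exists_subset_of_mem_open (show s' ∈ h ⁻¹ᵁ U from hsU) (h ⁻¹ᵁ U).2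
  obtain ⟨b, hbim, hsb⟩ := hU.exists_basicOpen_le (V := ⟨h '' W, h.isOpenMap _ W.2⟩) ⟨h s', s', hsW, rfl⟩ hsU
  let U' := S.basicOpen b
  have hU' : IsAffineOpen U' := hU.basicOpen b
  let W' := S'.basicOpen (h.appLE U W hWU b)
  have hW' : IsAffineOpen W' := hW.basicOpen _
  have hWeq : W' = W ⊓ h ⁻¹ᵁ U' := Scheme.basicOpen_appLE h W U hWU b
  have hWU' : W' ≤ h ⁻¹ᵁ U' := hWeq ▸ inf_le_right
  let φ := h.appLE U' W' hWU'
  have hφ : φ.hom.FaithfullyFlat := by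
    letI : Algebra Γ(S, U') Γ(S', W') := φ.hom.toAlgebra
    haveI : Module.Flat Γ(S, U') Γ(S', W') := Flat.flat_appLE h hU' hW' hWU'
    show Module.FaithfullyFlat Γ(S, U') Γ(S', W')
    refine Module.FaithfullyFlat.of_comap_surjective fun P => ?_
    obtain ⟨z, hzW, hz⟩ := hbim (BCCoh.fromSpec_mem hU' P : hU'.fromSpec P ∈ U')
    have hzU : h z ∈ U' := by rw [hz]; exact BCCoh.fromSpec_mem hU' P
    have hzW' : z ∈ W' := by rw [hWeq]; exact ⟨hzW, hzU⟩
    refine ⟨hW'.primeIdealOf ⟨z, hzW'⟩, (IsAffineOpen.comap_primeIdealOf_appLE U' hU' W' hW' hWU' hzW').trans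
      (hU'.fromSpec.isOpenEmbedding.injective ?_)⟩
    rw [hU'.fromSpec_primeIdealOf]; exact hz
  let v : Spec Γ(S', W') ⟶ S := hW'.fromSpec ≫ h
  have hv : Spec.map φ ≫ hU'.fromSpec = v := IsAffineOpen.SpecMap_appLE_fromSpec h hU' hW' hWU'
  let p : pullback f v ⟶ X := pullback.fst f v
  have hp : pull p (cls c) = 1 := by
    have e : pullback.lift p (pullback.snd f v ≫ hW'.fromSpec) (by
        rw [Category.assoc]; exact pullback.condition) ≫ pullback.fst f h = p := pullback.lift_fst _ _ _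
    rw [← e, ← pull_comp, hc, map_one]
  obtain ⟨a', ha'⟩ := cls_eq_one_iff.1 ((pull_cls p c).symm.trans hp)
  let a : ∀ i, Γ(pullback f v, p ⁻¹ᵁ c.D i) := fun i => res (le_inf le_top le_rfl) (a'.1 i)
  have hau : ∀ i, IsUnit (a i) := fun i => isUnit_component (c := c.comap p) ha' i le_rfl
  have har : ∀ (i k : c.ι) (W : (pullback f v).Opens) (hi : W ≤ p ⁻¹ᵁ c.D i) (hk : W ≤ p ⁻¹ᵁ c.D k),
      res hi (a i) = (c.comap p).G i k hi hk * res hk (a k) := by
    intro i k W hi hk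
    have e := (c.comap p).sect_spec a' i k (W := W) (le_inf le_top hi) (le_inf le_top hk)
    rw [pow_one] at e
    simp only [a, res_res]
    exact e
  obtain ⟨θ, hθu, hrel, hcoc⟩ := exists_theta v hb a hau har
  let P : Spec Γ(S, U') := hU'.primeIdealOf ⟨h s', hsb⟩
  obtain ⟨x, hx, ⟨q, hq, hqx⟩, hsat⟩ := exists_coboundary_near φ hφ hU'.fromSpec hv θ hθu hcoc P
  let O : (Spec Γ(S', W')).Opens := (Spec Γ(S', W')).basicOpen x
  haveI : Flat v := inferInstanceAs (Flat (hW'.fromSpec ≫ h))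
  haveI : LocallyOfFinitePresentation v := inferInstanceAs (LocallyOfFinitePresentation (hW'.fromSpec ≫ h))
  let E : S.Opens := ⟨v '' O, v.isOpenMap _ O.2⟩
  have hEO : ∀ q, v q ∈ E → q ∈ O := fun q ⟨q', hq', e⟩ => hsat q' q e hq'
  refine ⟨E, ⟨q, hqx, ?_⟩, ?_⟩
  · have e : hU'.fromSpec (Spec.map φ q) = h s' := by rw [hq, hU'.fromSpec_primeIdealOf]
    rw [← e]
    rw [← hv]
    rfl
  let j := (f ⁻¹ᵁ E).ι
  let p' : pullback p j ⟶ (f ⁻¹ᵁ E).toScheme := pullback.snd p j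
  let g : pullback p j ⟶ pullback f v := pullback.fst p j
  haveI : Flat p := MorphismProperty.pullback_fst f v ‹Flat v›
  haveI : LocallyOfFinitePresentation p := MorphismProperty.pullback_fst f v ‹LocallyOfFinitePresentation v›
  haveI : Flat p' := MorphismProperty.pullback_snd p j ‹Flat p›
  haveI : LocallyOfFinitePresentation p' := MorphismProperty.pullback_snd p j ‹LocallyOfFinitePresentation p›
  haveI : Surjective p' := ⟨fun y => by
    obtain ⟨q₁, -, e⟩ : f (j y) ∈ E := y.2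
    obtain ⟨z, hz, -⟩ := Scheme.Pullback.exists_preimage_pullback (f := f) (g := v) (j y) q₁ e.symm
    obtain ⟨z', -, hz'⟩ := Scheme.Pullback.exists_preimage_pullback (f := p) (g := j) z y hz
    exact ⟨z', hz'⟩⟩
  have hpj : g ≫ p = p' ≫ j := pullback.condition
  have hg : ∀ z, pullback.snd f v (g z) ∈ O := fun z => hEO _ (by
    have e1 : v (pullback.snd f v (g z)) = f (p (g z)) := by
      rw [← Scheme.Hom.comp_apply, ← pullback.condition, Scheme.Hom.comp_apply]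
    have e2 : p (g z) = j (p' z) := by rw [← Scheme.Hom.comp_apply, hpj, Scheme.Hom.comp_apply]
    rw [e1, e2]
    exact (p' z).2)
  have hxu : IsUnit (res (le_top : O ≤ ⊤) x) := RingedSpace.isUnit_res_basicOpen (Spec Γ(S', W')).toRingedSpace x
  obtain ⟨ix, hix⟩ := hxu.exists_right_inv
  let y : Γ(pullback p j, ⊤) := (g ≫ pullback.snd f v).appLE O ⊤ (fun z _ => hg z) ix
  have hyu : IsUnit y := (IsUnit.of_mul_eq_one _ ((mul_comm _ _).trans hix)).map _
  have hD : ∀ i, p' ⁻¹ᵁ (c.comap j).D i ≤ g ⁻¹ᵁ (p ⁻¹ᵁ c.D i) := fun i => le_pre hpj le_rfl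
  refine triv_of_invariant p' (c.comap j)
    (fun i => g.appLE (p ⁻¹ᵁ c.D i) (p' ⁻¹ᵁ (c.comap j).D i) (hD i) (a i) * res le_top y)
    (fun i => ((hau i).map _).mul (hyu.map _)) ?_ ?_
  · intro i k W hi hk
    have A := pull_rel p c a har g rfl i k (W := W) (hi.trans (hD i)) (hk.trans (hD k))
    have hG : ((c.comap j).comap p').G i k hi hk =
        (g ≫ p).appLE (c.D i ⊓ c.D k) W (le_pre_inf (hi.trans (hD i)) (hk.trans (hD k))) (c.g i k) := by
      rw [comap_G' (c.comap j) p']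
      show p'.appLE _ W _ (j.appLE (c.D i ⊓ c.D k) _ _ (c.g i k)) = _
      rw [appLE_appLE]
      exact appLE_congr hpj.symm _ _ _
    simp only [map_mul, res_appLE', res_res]
    rw [A, hG, mul_assoc]
  · intro Z α β hαβ i ea eb
    have hαβ' : (α ≫ g) ≫ p = (β ≫ g) ≫ p := by
      rw [Category.assoc, hpj, ← Category.assoc, hαβ, Category.assoc, ← hpj, ← Category.assoc]
    let t : Z ⟶ pullback v v := pullback.lift ((α ≫ g) ≫ pullback.snd f v) ((β ≫ g) ≫ pullback.snd f v) (by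
      rw [Category.assoc, ← pullback.condition, ← Category.assoc]
      refine (congrArg (· ≫ f) hαβ').trans ?_
      rw [Category.assoc, pullback.condition, ← Category.assoc])
    have R := hrel (α ≫ g) (β ≫ g) hαβ' t (pullback.lift_fst _ _ _) (pullback.lift_snd _ _ _) i ⊤
      (ea.trans (α.preimage_mono (hD i))) (eb.trans (β.preimage_mono (hD i)))
    have X' := congrArg (t.appLE ⊤ ⊤ le_top) hx
    rw [map_mul, appLE_appLE, appLE_appLE, appLE_congr (pullback.lift_fst _ _ _) _ le_top,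
      appLE_congr (pullback.lift_snd _ _ _) _ le_top] at X'
    have eα : (⊤ : Z.Opens) ≤ ((α ≫ g) ≫ pullback.snd f v) ⁻¹ᵁ O := fun z _ => hg (α z)
    have eβ : (⊤ : Z.Opens) ≤ ((β ≫ g) ≫ pullback.snd f v) ⁻¹ᵁ O := fun z _ => hg (β z)
    have Iα := congrArg (((α ≫ g) ≫ pullback.snd f v).appLE O ⊤ eα) hix
    have Iβ := congrArg (((β ≫ g) ≫ pullback.snd f v).appLE O ⊤ eβ) hix
    simp only [map_mul, map_one, appLE_res'] at Iα Iβ
    simp only [y, map_mul, res_appLE', appLE_appLE]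
    rw [appLE_congr (Category.assoc α g _).symm _ eα, appLE_congr (Category.assoc β g _).symm _ eβ, R]
    set xa := ((α ≫ g) ≫ pullback.snd f v).appLE ⊤ ⊤ le_top x
    set xb := ((β ≫ g) ≫ pullback.snd f v).appLE ⊤ ⊤ le_top x
    set ja := ((α ≫ g) ≫ pullback.snd f v).appLE O ⊤ eα ix
    set jb := ((β ≫ g) ≫ pullback.snd f v).appLE O ⊤ eβ ix
    set A := (α ≫ g).appLE (p ⁻¹ᵁ c.D i) ⊤ (ea.trans (α.preimage_mono (hD i))) (a i)
    set Θ := t.appLE ⊤ ⊤ le_top θ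
    linear_combination (-(A * ja)) * Iβ + A * Θ * jb * Iα + A * ja * jb * X'

/-- **Invertible modules trivial after an fppf covering of the base come from the base.** -/
theorem exists_base (hb : ∀ {T : Scheme.{u}} (g : T ⟶ S) (U : T.Opens),
      Function.Bijective ((pullback.snd f g).app U))
    {L : X.Modules} (hL : PicF.IsInvertible L)
    {S' : Scheme.{u}} (h : S' ⟶ S) [Flat h] [LocallyOfFinitePresentation h] [Surjective h]
    (htriv : Nonempty ((Scheme.Modules.pullback (pullback.fst f h)).obj L ≅ Coh.structureModule _)) :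
    ∃ N : S.Modules, PicF.IsInvertible N ∧ Nonempty (L ≅ (Scheme.Modules.pullback f).obj N) := by
  obtain ⟨c, ⟨e⟩⟩ := Ample.exists_cocycle hL
  have hc : pull (pullback.fst f h) (cls c) = 1 := by
    rw [← clsMod_eq hL e, ← clsMod_pullback _ hL, clsMod_eq_one_iff]
    exact htriv
  refine PicDirect26.exists_base_of_local (bijective_app hb) L fun s => ?_
  obtain ⟨E, hsE, hE⟩ := triv_near hb h hc s
  refine ⟨E, hsE, PicDirect26.exists_gen_of_pullback_ι ?_⟩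
  rw [← clsMod_eq_one_iff (isInvertible_pullback _ hL), clsMod_pullback _ hL, clsMod_eq hL e, pull_cls,
    cls_eq_one_iff]
  exact hE

end GrothLib.FppfPic26
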